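import Mathlib.AlgebraicGeometry.Sites.Representability
import Mathlib.AlgebraicGeometry.Morphisms.Basic

/-!
# Conditions on morphisms to a scheme which are representable locally on the scheme
-/

set_option autoImplicit false
set_option backward.isDefEq.respectTransparency false
set_option linter.style.haveILetI false

universe u

open CategoryTheory CategoryTheory.Limits AlgebraicGeometry Opposite

namespace Groth.Agent.LocRepX

variable {S : Scheme.{u}} (P : ∀ ⦃T : Scheme.{u}⦄, (T ⟶ S) → Prop)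
  (hstab : ∀ ⦃T T' : Scheme.{u}⦄ (a : T' ⟶ T) (u : T ⟶ S), P u → P (a ≫ u))
  (hloc : ∀ ⦃T : Scheme.{u}⦄ (𝒰 : Scheme.OpenCover.{u} T) (u : T ⟶ S), (∀ i, P (𝒰.f i ≫ u)) → P u)

/-- The subfunctor of points satisfying the condition. -/
noncomputable def pre : Scheme.{u}ᵒᵖ ⥤ Type u where
  obj T := { u : T.unop ⟶ S // P u }
  map a := ↾fun p => ⟨a.unop ≫ p.1, hstab a.unop p.1 p.2⟩
  map_id T := ConcreteCategory.hom_ext _ _ fun p => Subtype.ext (Category.id_comp p.1)
  map_comp a b := ConcreteCategory.hom_ext _ _ fun p => Subtype.ext (Category.assoc b.unop a.unop p.1)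

include hloc in
theorem isSheaf : Presieve.IsSheaf Scheme.zariskiTopology (pre P hstab) := by
  have key : ∀ {Y : Scheme.{u}} (𝒰 : Scheme.OpenCover.{u} Y),
      Presieve.IsSheafFor (pre P hstab) (Presieve.ofArrows 𝒰.X 𝒰.f) := by
    intro Y 𝒰
    rw [Presieve.isSheafFor_arrows_iff]
    intro x hx
    have hc : ∀ i j, pullback.fst (𝒰.f i) (𝒰.f j) ≫ (x i).1 = pullback.snd (𝒰.f i) (𝒰.f j) ≫ (x j).1 := fun i j =>
      congrArg Subtype.val (hx _ _ _ (pullback.fst (𝒰.f i) (𝒰.f j)) (pullback.snd (𝒰.f i) (𝒰.f j)) pullback.condition)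
    let g : Y ⟶ S := 𝒰.glueMorphisms (fun i => (x i).1) hc
    have hg : ∀ i, 𝒰.f i ≫ g = (x i).1 := fun i => 𝒰.ι_glueMorphisms _ hc i
    refine ⟨⟨g, hloc 𝒰 g fun i => (hg i).symm ▸ (x i).2⟩, fun i => Subtype.ext (hg i), fun p hp => ?_⟩
    exact Subtype.ext (𝒰.hom_ext _ _ fun i => (congrArg Subtype.val (hp i)).trans (hg i).symm)
  intro Y R hR
  obtain ⟨𝒰, h𝒰⟩ := Scheme.mem_grothendieckTopology_iff.1 hR
  refine Presieve.isSheafFor_subsieve (pre P hstab) (S := Sieve.generate (Presieve.ofArrows 𝒰.X 𝒰.f)) ?_ fun Y' a => ?_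
  · rintro Z k ⟨W, l, m, hm, rfl⟩
    exact R.downward_closed (h𝒰 _ _ hm) l
  · rw [← Sieve.pullbackArrows_comm, ← Presieve.isSheafFor_iff_generate, ← Presieve.ofArrows_pullback]
    exact key (Precoverage.ZeroHypercover.pullback₂ a 𝒰)

include hstab hloc in
/-- A condition that is locally representable by monomorphisms is representable by a monomorphism, with every
property that is local on the target. -/
theorem exists_representing {ι : Type u} (V : ι → S.Opens) (hV : ⨆ i, V i = ⊤) (Z : ι → Scheme.{u})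
    (z : ∀ i, Z i ⟶ (V i : Scheme.{u})) [∀ i, Mono (z i)]
    (hz : ∀ (i : ι) ⦃T : Scheme.{u}⦄ (v : T ⟶ (V i : Scheme.{u})), (∃ l, l ≫ z i = v) ↔ P (v ≫ (V i).ι)) :
    ∃ (W : Scheme.{u}) (j : W ⟶ S), Mono j ∧ (∀ ⦃T : Scheme.{u}⦄ (u : T ⟶ S), (∃ l, l ≫ j = u) ↔ P u) ∧
      ∀ (Q : MorphismProperty Scheme.{u}) [IsZariskiLocalAtTarget Q], (∀ i, Q (z i)) → Q j := by
  let F : Sheaf Scheme.zariskiTopology.{u} (Type u) :=
    ⟨pre P hstab, (isSheaf_iff_isSheaf_of_type _ _).2 (isSheaf P hstab hloc)⟩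
  let el : ∀ i, (pre P hstab).obj (op (Z i)) := fun i => ⟨z i ≫ (V i).ι, (hz i (z i)).1 ⟨𝟙 _, Category.id_comp _⟩⟩
  let fam : ∀ i, yoneda.obj (Z i) ⟶ F.1 := fun i => yonedaEquiv.symm (el i)
  have hfam : ∀ i {T : Scheme.{u}} (c : T ⟶ Z i), ((fam i).app (op T) c).1 = c ≫ z i ≫ (V i).ι := fun i {T} c => rfl
  have hopen : ∀ i, IsOpenImmersion.presheaf (fam i) := fun i => by
    refine MorphismProperty.relative.of_exists fun T y => ?_
    let p : (pre P hstab).obj (op T) := yonedaEquiv y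
    let O : T.Opens := p.1 ⁻¹ᵁ V i
    let v : (O : Scheme.{u}) ⟶ (V i : Scheme.{u}) := p.1.resLE (V i) O le_rfl
    obtain ⟨g, hg⟩ := (hz i v).2 (by
      rw [show v ≫ (V i).ι = O.ι ≫ p.1 from Scheme.Hom.resLE_comp_ι _ _]
      exact hstab O.ι p.1 p.2)
    have hy : ∀ {T' : Scheme.{u}} (a : T' ⟶ T), (y.app (op T') a).1 = a ≫ p.1 := fun {T'} a => by
      conv_lhs => rw [← Equiv.symm_apply_apply yonedaEquiv y]
      rfl
    refine ⟨(O : Scheme.{u}), yoneda.map g, O.ι, ?_, inferInstance⟩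
    refine IsPullback.of_forall_isPullback_app fun ⟨T'⟩ => ?_
    rw [CategoryTheory.Limits.Types.isPullback_iff]
    refine ⟨?_, fun c c' h => (cancel_mono O.ι).1 h.2, fun (c : T' ⟶ Z i) (a : T' ⟶ T) h => ?_⟩
    · ext c
      refine Subtype.ext ?_
      show ((fam i).app (op T') (c ≫ g)).1 = (y.app (op T') (c ≫ O.ι)).1
      rw [hfam, hy, Category.assoc, reassoc_of% hg, Category.assoc]
      exact congrArg (c ≫ ·) (Scheme.Hom.resLE_comp_ι _ _)
    · have h' : c ≫ z i ≫ (V i).ι = a ≫ p.1 := (hfam i c).symm.trans ((congrArg Subtype.val h).trans (hy a))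
      have hr : Set.range a ⊆ Set.range O.ι := by
        rw [Scheme.Opens.range_ι]
        rintro _ ⟨t, rfl⟩
        show p.1 (a t) ∈ V i
        rw [← Scheme.Hom.comp_apply, ← h', Scheme.Hom.comp_apply, Scheme.Hom.comp_apply]
        exact (z i (c t)).2
      let l := IsOpenImmersion.lift O.ι a hr
      have hl : l ≫ O.ι = a := IsOpenImmersion.lift_fac _ _ _
      refine ⟨l, ?_, hl⟩
      show l ≫ g = c
      rw [← cancel_mono (z i), ← cancel_mono (V i).ι, Category.assoc l g, hg, Category.assoc, Category.assoc,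
        Scheme.Hom.resLE_comp_ι, reassoc_of% hl, h']
  haveI : Presheaf.IsLocallySurjective Scheme.zariskiTopology (Sigma.desc fam) := by
    refine ⟨fun {T} s => ?_⟩
    let 𝒱 : Scheme.OpenCover.{u} T := T.openCoverOfIsOpenCover (fun i => s.1 ⁻¹ᵁ V i)
      (TopologicalSpace.IsOpenCover.mk (eq_top_iff.2 fun t _ => by
        obtain ⟨i, hi⟩ := TopologicalSpace.Opens.mem_iSup.1 (hV.ge (show s.1 t ∈ (⊤ : S.Opens) from trivial))
        exact TopologicalSpace.Opens.mem_iSup.2 ⟨i, hi⟩))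
    refine GrothendieckTopology.superset_covering _ ?_ 𝒱.mem_grothendieckTopology
    rintro T' k ⟨_, l, m, ⟨i⟩, rfl⟩
    refine Sieve.downward_closed _ ?_ l
    let O : T.Opens := s.1 ⁻¹ᵁ V i
    obtain ⟨g, hg⟩ := (hz i (s.1.resLE (V i) O le_rfl)).2 (by
      rw [Scheme.Hom.resLE_comp_ι]
      exact hstab O.ι s.1 s.2)
    refine ⟨(Sigma.ι (fun i => yoneda.obj (Z i)) i).app (op (O : Scheme.{u})) g, ?_⟩
    show ((Sigma.ι (fun i => yoneda.obj (Z i)) i ≫ Sigma.desc fam).app (op (O : Scheme.{u}))) g = _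
    rw [Sigma.ι_desc]
    refine Subtype.ext ?_
    show ((fam i).app (op (O : Scheme.{u})) g).1 = O.ι ≫ s.1
    rw [hfam, reassoc_of% hg]
    exact Scheme.Hom.resLE_comp_ι _ _
  let R := Scheme.LocalRepresentability.representableBy hopen
  let W : Scheme.{u} := (Scheme.LocalRepresentability.glueData hopen).glued
  let e : ∀ {T : Scheme.{u}}, (T ⟶ W) ≃ (pre P hstab).obj (op T) := fun {T} => R.homEquiv
  have he : ∀ {T : Scheme.{u}} (a : T ⟶ W), (e a).1 = a ≫ (e (𝟙 W)).1 := fun a => by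
    have := congrArg Subtype.val (R.homEquiv_comp a (𝟙 W))
    rwa [Category.comp_id] at this
  let j := (e (𝟙 W)).1
  have hmono : Mono j := ⟨fun a b h => e.injective (Subtype.ext ((he a).trans (h.trans (he b).symm)))⟩
  have huniv : ∀ ⦃T : Scheme.{u}⦄ (u : T ⟶ S), (∃ l, l ≫ j = u) ↔ P u := fun T u =>
    ⟨fun ⟨l, hl⟩ => hl ▸ hstab l j (e (𝟙 W)).2,
      fun hu => ⟨e.symm ⟨u, hu⟩, (he _).symm.trans (congrArg Subtype.val (e.apply_symm_apply _))⟩⟩
  refine ⟨W, j, hmono, huniv, fun Q _ hQ => ?_⟩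
  refine IsZariskiLocalAtTarget.of_iSup_eq_top V hV fun i => ?_
  haveI := hmono
  haveI : Mono (j ∣_ V i) := MorphismProperty.of_isPullback (P := MorphismProperty.monomorphisms Scheme)
    (isPullback_morphismRestrict j (V i)).flip (MorphismProperty.monomorphisms.infer_property j)
  obtain ⟨a, ha⟩ := (hz i (j ∣_ V i)).2 (by
    rw [morphismRestrict_ι]
    exact hstab _ j (e (𝟙 W)).2)
  obtain ⟨b, hb⟩ := (huniv (z i ≫ (V i).ι)).2 ((hz i (z i)).1 ⟨𝟙 _, Category.id_comp _⟩)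
  let b' := (isPullback_morphismRestrict j (V i)).lift (z i) b hb.symm
  have hb' : b' ≫ j ∣_ V i = z i := IsPullback.lift_fst _ _ _ _
  let α : ((j ⁻¹ᵁ V i : W.Opens) : Scheme.{u}) ≅ Z i :=
    { hom := a
      inv := b'
      hom_inv_id := by rw [← cancel_mono (j ∣_ V i), Category.assoc, hb', ha, Category.id_comp]
      inv_hom_id := by rw [← cancel_mono (z i), Category.assoc, ha, hb', Category.id_comp] }
  exact (Q.arrow_mk_iso_iff (Arrow.isoMk α (Iso.refl _) (by simp [α, ha]) : Arrow.mk (j ∣_ V i) ≅ Arrow.mk (z i))).2 (hQ i)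

end Groth.Agent.LocRepX
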